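import Groth.Prelude.Def_Dyn
import Groth.Agent.HopfPtLib.Conv3
import Mathlib.RingTheory.HopfAlgebra.Quotient

/-! The conjugated orbit of a one-parameter subgroup, as a homomorphism of convolution groups. -/

universe u

open LaurentPolynomial TensorProduct WithConv

namespace Groth.Agent.DynLib

variable {k : Type u} [CommRing k] {A : Type u} [CommRing A] [HopfAlgebra k A]
  {R S : Type u} [CommRing R] [Algebra k R] [CommRing S] [Algebra k S]

/-- The convolution group of points with values in a commutative algebra. -/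
noncomputable scoped instance ptsGroup : Group (WithConv (A →ₐ[k] R)) :=
  { (inferInstance : Monoid (WithConv (A →ₐ[k] R))) with
    inv := fun f => toConv (f.ofConv.comp (HopfAlgebra.antipodeAlgHom k A))
    inv_mul_cancel := fun f => HopfPtLib.antipode_comp_convMul f.ofConv }

/-- Post-composition as a homomorphism of convolution monoids. -/
noncomputable def post {C D : Type u} [CommRing C] [Algebra k C] [CommRing D] [Algebra k D]
    (φ : C →ₐ[k] D) : WithConv (A →ₐ[k] C) →* WithConv (A →ₐ[k] D) where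
  toFun f := toConv (φ.comp f.ofConv)
  map_one' := by
    apply WithConv.ofConv_injective
    ext a
    simp [AlgHom.convOne_apply]
  map_mul' f g := by
    rw [AlgHom.comp_convMul_distrib, toConv_ofConv]

theorem post_apply {C D : Type u} [CommRing C] [Algebra k C] [CommRing D] [Algebra k D]
    (φ : C →ₐ[k] D) (f : A →ₐ[k] C) : post φ (toConv f) = toConv (φ.comp f) := rfl

/-- Constants in Laurent polynomials. -/
noncomputable abbrev con (k R : Type u) [CommRing k] [CommRing R] [Algebra k R] :
    R →ₐ[k] R[T;T⁻¹] := IsScalarTower.toAlgHom k R R[T;T⁻¹]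

variable (lam : A →ₐc[k] k[T;T⁻¹])

/-- The one-parameter subgroup read over `R`, as an element of the convolution group. -/
noncomputable def lamW (R : Type u) [CommRing R] [Algebra k R] : WithConv (A →ₐ[k] R[T;T⁻¹]) :=
  toConv (Dyn.lamR k A lam R)

/-- The conjugated orbit, as a homomorphism. -/
noncomputable def conjHom (R : Type u) [CommRing R] [Algebra k R] :
    WithConv (A →ₐ[k] R) →* WithConv (A →ₐ[k] R[T;T⁻¹]) :=
  (MulAut.conj (lamW lam R)).toMonoidHom.comp (post (con k R))

theorem conjHom_apply (g : WithConv (A →ₐ[k] R)) :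
    conjHom lam R g = lamW lam R * post (con k R) g * (lamW lam R)⁻¹ := rfl

theorem toConv_conjOrbit (g : A →ₐ[k] R) :
    toConv (Dyn.conjOrbit k A lam R g) = conjHom lam R (toConv g) := by
  rw [Dyn.conjOrbit, HopfPtLib.conv3_eq, toConv_ofConv]
  rfl

theorem conjOrbit_eq (g : A →ₐ[k] R) :
    Dyn.conjOrbit k A lam R g = (conjHom lam R (toConv g)).ofConv := by
  rw [← toConv_conjOrbit]

theorem lamR_natural (φ : R →ₐ[k] S) :
    (AddMonoidAlgebra.mapAlgHom ℤ φ).comp (Dyn.lamR k A lam R) = Dyn.lamR k A lam S := by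
  ext a n
  simp [Dyn.lamR]

theorem conjHom_natural (φ : R →ₐ[k] S) (g : WithConv (A →ₐ[k] R)) :
    post (AddMonoidAlgebra.mapAlgHom ℤ φ) (conjHom lam R g) = conjHom lam S (post φ g) := by
  have hl : post (AddMonoidAlgebra.mapAlgHom ℤ φ) (lamW lam R) = lamW lam S :=
    congrArg toConv (lamR_natural lam φ)
  rw [conjHom_apply, conjHom_apply, map_mul, map_mul, map_inv, hl]
  congr 2
  apply WithConv.ofConv_injective
  ext a n
  show ((AddMonoidAlgebra.mapAlgHom ℤ φ) (con k R (g.ofConv a))).coeff n =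
    (con k S (φ (g.ofConv a))).coeff n
  rw [AddMonoidAlgebra.coeff_mapAlgHom]
  simp only [con, IsScalarTower.coe_toAlgHom', LaurentPolynomial.algebraMap_apply]
  by_cases h : n = 0
  · subst h; simp
  · simp [h]

theorem conjOrbit_natural (φ : R →ₐ[k] S) (g : A →ₐ[k] R) :
    (AddMonoidAlgebra.mapAlgHom ℤ φ).comp (Dyn.conjOrbit k A lam R g) =
      Dyn.conjOrbit k A lam S (φ.comp g) := by
  rw [conjOrbit_eq, conjOrbit_eq]
  exact congrArg WithConv.ofConv (conjHom_natural lam φ (toConv g))

theorem coeff_conjOrbit (g : A →ₐ[k] R) (a : A) (n : ℤ) :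
    (Dyn.conjOrbit k A lam R g a).coeff n =
      g ((Dyn.conjOrbit k A lam A (AlgHom.id k A) a).coeff n) := by
  conv_lhs => rw [show g = g.comp (AlgHom.id k A) from (AlgHom.comp_id g).symm,
    ← conjOrbit_natural]
  rw [AlgHom.comp_apply, AddMonoidAlgebra.coeff_mapAlgHom]

/-- The inclusion of polynomials into Laurent polynomials. -/
noncomputable abbrev toL (k R : Type u) [CommRing k] [CommRing R] [Algebra k R] :
    Polynomial R →ₐ[k] R[T;T⁻¹] := (Polynomial.toLaurentAlg (R := R)).restrictScalars k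

theorem toL_injective : Function.Injective (toL k R) := Polynomial.toLaurent_injective

theorem coeff_toLaurent_natCast (p : Polynomial R) (n : ℕ) :
    (Polynomial.toLaurent p).coeff (n : ℤ) = p.coeff n := by
  rw [Polynomial.toLaurent_apply]
  exact Finsupp.mapDomain_apply Nat.cast_injective p.toFinsupp.coeff n

theorem coeff_toLaurent_neg (p : Polynomial R) {n : ℤ} (hn : n < 0) :
    (Polynomial.toLaurent p).coeff n = 0 := by
  rw [Polynomial.toLaurent_apply]
  refine Finsupp.mapDomain_notin_range (f := (Nat.cast : ℕ → ℤ)) p.toFinsupp.coeff n ?_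
  rintro ⟨m, rfl⟩
  omega

theorem toLaurent_trunc (p : R[T;T⁻¹]) (hp : ∀ n : ℤ, n < 0 → p.coeff n = 0) :
    Polynomial.toLaurent (LaurentPolynomial.trunc p) = p := by
  ext n
  rcases lt_or_ge n 0 with h | h
  · rw [coeff_toLaurent_neg _ h, hp n h]
  · obtain ⟨m, rfl⟩ := Int.eq_ofNat_of_zero_le h
    rw [coeff_toLaurent_natCast]
    rfl

theorem limExists_iff (g : A →ₐ[k] R) :
    Dyn.LimExists k A lam R g ↔
      ∀ (a : A) (n : ℤ), n < 0 → (Dyn.conjOrbit k A lam R g a).coeff n = 0 := by
  constructor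
  · rintro ⟨h, hh⟩ a n hn
    rw [← hh]
    exact coeff_toLaurent_neg _ hn
  · intro h
    let e := AlgEquiv.ofInjective (toL k R) toL_injective
    let c : A →ₐ[k] (toL k R).range := (Dyn.conjOrbit k A lam R g).codRestrict (toL k R).range
      fun a => ⟨_, toLaurent_trunc _ (h a)⟩
    refine ⟨e.symm.toAlgHom.comp c, ?_⟩
    ext a : 1
    exact congrArg Subtype.val (e.apply_symm_apply (c a))

theorem limExists_iff_range (g : A →ₐ[k] R) :
    Dyn.LimExists k A lam R g ↔
      conjHom lam R (toConv g) ∈ (post (A := A) (toL k R)).range := by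
  constructor
  · rintro ⟨h, hh⟩
    exact ⟨toConv h, by rw [post_apply, hh, toConv_conjOrbit]⟩
  · rintro ⟨h, hh⟩
    exact ⟨h.ofConv, by rw [conjOrbit_eq, ← hh]; rfl⟩

/-- The value at `T = 0`. -/
noncomputable abbrev ev0 (k R : Type u) [CommRing k] [CommRing R] [Algebra k R] :
    Polynomial R →ₐ[k] R := (Polynomial.aeval (R := R) (0 : R)).restrictScalars k

theorem limIsOne_iff (g : A →ₐ[k] R) :
    Dyn.LimIsOne k A lam R g ↔ ∃ h : WithConv (A →ₐ[k] Polynomial R),
      post (toL k R) h = conjHom lam R (toConv g) ∧ post (ev0 k R) h = 1 := by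
  constructor
  · rintro ⟨h, hh, h0⟩
    exact ⟨toConv h, by rw [post_apply, hh, toConv_conjOrbit], congrArg toConv h0⟩
  · rintro ⟨h, hh, h0⟩
    exact ⟨h.ofConv, by rw [conjOrbit_eq, ← hh]; rfl, congrArg WithConv.ofConv h0⟩

end Groth.Agent.DynLib
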