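import Groth.Agent.DynLib.Repr
import Mathlib.RingTheory.HopfAlgebra.MonoidAlgebra

/-! The centralizer of a one-parameter subgroup and the Levi decomposition. -/

universe u

open LaurentPolynomial TensorProduct WithConv

namespace Groth.Agent.DynLib

variable {k : Type u} [CommRing k] {A : Type u} [CommRing A] [HopfAlgebra k A]
  (lam : A →ₐc[k] k[T;T⁻¹]) {R : Type u} [CommRing R] [Algebra k R]

/-- The value at `T = 1`. -/
noncomputable def ev1 (k R : Type u) [CommRing k] [CommRing R] [Algebra k R] :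
    R[T;T⁻¹] →ₐ[k] R := (AddMonoidAlgebra.lift R R ℤ 1).restrictScalars k

theorem ev1_single (n : ℤ) (r : R) : ev1 k R (AddMonoidAlgebra.single n r) = r := by
  rw [ev1, AlgHom.restrictScalars_apply, AddMonoidAlgebra.lift_single]
  simp

theorem ev1_con (r : R) : ev1 k R (con k R r) = r := ev1_single 0 r

theorem ev1_lamW : post (ev1 k R) (lamW lam R) = 1 := by
  apply WithConv.ofConv_injective
  have key : ((ev1 k R).comp (AddMonoidAlgebra.mapAlgHom ℤ (Algebra.ofId k R))) =
      (Algebra.ofId k R).comp (Bialgebra.counitAlgHom k k[T;T⁻¹]) := by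
    refine AddMonoidAlgebra.algHom_ext (fun n => ?_) (Subsingleton.elim _ _)
    simp only [AlgHom.comp_apply]
    have e : AddMonoidAlgebra.mapAlgHom ℤ (Algebra.ofId k R) (AddMonoidAlgebra.single n (1 : k)) =
        AddMonoidAlgebra.single n (1 : R) := by
      ext m
      by_cases hm : m = n
      · subst hm; simp
      · simp [Ne.symm hm]
    rw [e, ev1_single]
    simp
  ext a
  have h := DFunLike.congr_fun key (lam a)
  simp only [AlgHom.comp_apply, Bialgebra.counitAlgHom_apply, CoalgHomClass.counit_comp_apply] at h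
  simpa [AlgHom.convOne_apply, lamW, Dyn.lamR, post] using h

theorem ev1_conjHom (g : WithConv (A →ₐ[k] R)) : post (ev1 k R) (conjHom lam R g) = g := by
  rw [conjHom_apply, map_mul, map_mul, map_inv, ev1_lamW lam]
  simp only [one_mul, inv_one, mul_one]
  apply WithConv.ofConv_injective
  ext a
  exact ev1_con (k := k) (g.ofConv a)

/-- Inversion of the variable. -/
noncomputable def invk (k R : Type u) [CommRing k] [CommRing R] [Algebra k R] :
    R[T;T⁻¹] →ₐ[k] R[T;T⁻¹] := (LaurentPolynomial.invert (R := R)).toAlgHom.restrictScalars k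

theorem conjOrbit_neg (lamNeg : A →ₐc[k] k[T;T⁻¹])
    (hneg : (lamNeg : A →ₐ[k] k[T;T⁻¹]) = Dyn.negParam k A lam) (g : A →ₐ[k] R) :
    Dyn.conjOrbit k A lamNeg R g = (invk k R).comp (Dyn.conjOrbit k A lam R g) := by
  have hl : post (invk k R) (lamW lam R) = lamW lamNeg R := by
    apply WithConv.ofConv_injective
    ext a n
    have h := DFunLike.congr_fun hneg a
    simp only [Dyn.negParam, AlgHom.comp_apply] at h
    have h' : (lamNeg a).coeff n = (lam a).coeff (-n) := by
      have := congrArg (fun p => p.coeff n) h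
      simpa using this
    simp [lamW, Dyn.lamR, post, invk, h']
  have hc : ∀ g : WithConv (A →ₐ[k] R), post (invk k R) (post (con k R) g) = post (con k R) g := by
    intro g
    apply WithConv.ofConv_injective
    ext a : 1
    simp [post, invk, LaurentPolynomial.algebraMap_apply]
  rw [conjOrbit_eq, conjOrbit_eq, conjHom_apply lamNeg, ← hl, ← hc, ← map_inv, ← map_mul, ← map_mul]
  rfl

theorem represents_centralizer (lamNeg : A →ₐc[k] k[T;T⁻¹])
    (hneg : (lamNeg : A →ₐ[k] k[T;T⁻¹]) = Dyn.negParam k A lam)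
    (Jp Jp' : Ideal A)
    (hp : Dyn.Represents k A Jp (fun R _ _ g => Dyn.LimExists k A lam R g))
    (hp' : Dyn.Represents k A Jp' (fun R _ _ g => Dyn.LimExists k A lamNeg R g)) :
    Dyn.Represents k A (Jp ⊔ Jp')
      (fun R _ _ g => Dyn.conjOrbit k A lam R g = (IsScalarTower.toAlgHom k R R[T;T⁻¹]).comp g) := by
  intro R _ _ g
  constructor
  · intro h
    have h1 := (limExists_iff lam g).mp ((hp R g).mp fun a ha => h a (Ideal.mem_sup_left ha))
    have h2 := (limExists_iff lamNeg g).mp ((hp' R g).mp fun a ha => h a (Ideal.mem_sup_right ha))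
    ext a : 1
    have hsingle : Dyn.conjOrbit k A lam R g a =
        AddMonoidAlgebra.single 0 ((Dyn.conjOrbit k A lam R g a).coeff 0) := by
      ext n
      rcases lt_trichotomy n 0 with hn | hn | hn
      · rw [h1 a n hn, AddMonoidAlgebra.coeff_single, Finsupp.single_eq_of_ne hn.ne]
      · subst hn; rw [AddMonoidAlgebra.coeff_single, Finsupp.single_eq_same]
      · have h3 := h2 a (-n) (by omega)
        rw [conjOrbit_neg lam lamNeg hneg, AlgHom.comp_apply, invk] at h3
        simp only [AlgHom.restrictScalars_apply, AlgEquiv.toAlgHom_apply,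
          LaurentPolynomial.invert_apply, neg_neg] at h3
        rw [h3, AddMonoidAlgebra.coeff_single, Finsupp.single_eq_of_ne hn.ne']
    have hg : (Dyn.conjOrbit k A lam R g a).coeff 0 = g a := by
      have h4 := DFunLike.congr_fun (congrArg WithConv.ofConv (ev1_conjHom lam (toConv g))) a
      change ev1 k R ((conjHom lam R (toConv g)).ofConv a) = g a at h4
      rw [← conjOrbit_eq, hsingle, ev1_single] at h4
      exact h4
    rw [hsingle, hg]
    rfl
  · intro h b hb
    have hle : Jp ⊔ Jp' ≤ RingHom.ker g := by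
      refine sup_le (fun x hx => (hp R g).mpr ((limExists_iff lam g).mpr fun a n hn => ?_) x hx)
        (fun x hx => (hp' R g).mpr ((limExists_iff lamNeg g).mpr fun a n hn => ?_) x hx)
      · rw [h]
        simp [LaurentPolynomial.algebraMap_apply, hn.ne]
      · rw [conjOrbit_neg lam lamNeg hneg, AlgHom.comp_apply, h]
        simp [invk, LaurentPolynomial.algebraMap_apply, hn.ne]
    exact hle hb

end Groth.Agent.DynLib

namespace Groth.Agent.DynLib

open LaurentPolynomial TensorProduct WithConv

variable {k : Type u} [CommRing k] {A : Type u} [CommRing A] [HopfAlgebra k A]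
  (lam : A →ₐc[k] k[T;T⁻¹]) {R : Type u} [CommRing R] [Algebra k R]

theorem conj_mul_eq {G : Type*} [Group G] (a b c : G) :
    a * b * c * (a * b)⁻¹ = a * (b * c * b⁻¹) * a⁻¹ := by
  simp [mul_inv_rev, mul_assoc]

/-- `n ↦ TⁿUⁿ`. -/
noncomputable def diagPow (R : Type u) [CommRing R] : Multiplicative ℤ →* R[T;T⁻¹][T;T⁻¹] where
  toFun n := AddMonoidAlgebra.single n.toAdd (AddMonoidAlgebra.single n.toAdd (1 : R))
  map_one' := rfl
  map_mul' m n := by rw [AddMonoidAlgebra.single_mul_single, AddMonoidAlgebra.single_mul_single, mul_one, toAdd_mul]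

/-- Substitution `T ↦ TU`. -/
noncomputable def psi (k R : Type u) [CommRing k] [CommRing R] [Algebra k R] :
    R[T;T⁻¹] →ₐ[k] R[T;T⁻¹][T;T⁻¹] :=
  (AddMonoidAlgebra.lift R R[T;T⁻¹][T;T⁻¹] ℤ (diagPow R)).restrictScalars k

theorem psi_single (n : ℤ) (r : R) : psi k R (AddMonoidAlgebra.single n r) =
    AddMonoidAlgebra.single n (AddMonoidAlgebra.single n r) := by
  rw [psi, AlgHom.restrictScalars_apply, AddMonoidAlgebra.lift_single]
  show r • AddMonoidAlgebra.single n (AddMonoidAlgebra.single n (1 : R)) = _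
  rw [AddMonoidAlgebra.smul_single, AddMonoidAlgebra.smul_single, smul_eq_mul, mul_one]

theorem post_psi_lamW : post (psi k R) (lamW lam R) =
    lamW lam R[T;T⁻¹] * post (con k R[T;T⁻¹]) (lamW lam R) := by
  let a : k[T;T⁻¹] →ₐ[k] R[T;T⁻¹][T;T⁻¹] :=
    AddMonoidAlgebra.mapAlgHom ℤ (Algebra.ofId k R[T;T⁻¹])
  let b : k[T;T⁻¹] →ₐ[k] R[T;T⁻¹][T;T⁻¹] :=
    (con k R[T;T⁻¹]).comp (AddMonoidAlgebra.mapAlgHom ℤ (Algebra.ofId k R))
  have hmap : ∀ (S : Type u) [CommRing S] [Algebra k S] (n : ℤ),
      AddMonoidAlgebra.mapAlgHom ℤ (Algebra.ofId k S) (AddMonoidAlgebra.single n (1 : k)) =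
        AddMonoidAlgebra.single n (1 : S) := by
    intro S _ _ n
    ext m
    by_cases hm : m = n
    · subst hm; simp
    · simp [Ne.symm hm]
  have key : (toConv a * toConv b).ofConv =
      (psi k R).comp (AddMonoidAlgebra.mapAlgHom ℤ (Algebra.ofId k R)) := by
    refine AddMonoidAlgebra.algHom_ext (fun n => ?_) (Subsingleton.elim _ _)
    rw [AlgHom.comp_apply, hmap R n, psi_single]
    show (toConv a * toConv b) (AddMonoidAlgebra.single n (1 : k)) = _
    rw [AlgHom.convMul_apply]
    simp only [AddMonoidAlgebra.comul_single, CommSemiring.comul_apply, TensorProduct.map_tmul,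
      ofConv_toConv, Algebra.TensorProduct.map_tmul, Algebra.TensorProduct.lmul'_apply_tmul,
      LinearMap.mul'_apply]
    simp only [a, b, AlgHom.comp_apply, hmap, AddMonoidAlgebra.lsingle_apply,
      AlgHom.toLinearMap_apply, Algebra.TensorProduct.lift_tmul]
    show AddMonoidAlgebra.single n (1 : R[T;T⁻¹]) * AddMonoidAlgebra.single 0
      (AddMonoidAlgebra.single n (1 : R)) = _
    rw [AddMonoidAlgebra.single_mul_single, add_zero, one_mul]
  apply WithConv.ofConv_injective
  show (psi k R).comp ((AddMonoidAlgebra.mapAlgHom ℤ (Algebra.ofId k R)).comp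
    (lam : A →ₐ[k] k[T;T⁻¹])) = _
  rw [← AlgHom.comp_assoc, ← key]
  exact AlgHom.convMul_comp_bialgHom_distrib (toConv a) (toConv b) lam

theorem post_psi_conjHom (g : WithConv (A →ₐ[k] R)) :
    post (psi k R) (conjHom lam R g) = conjHom lam R[T;T⁻¹] (conjHom lam R g) := by
  have hc : post (psi k R) (post (con k R) g) =
      post (con k R[T;T⁻¹]) (post (con k R) g) := by
    apply WithConv.ofConv_injective
    ext a : 1
    exact psi_single (k := k) 0 (g.ofConv a)
  rw [conjHom_apply, map_mul, map_mul, map_inv, post_psi_lamW (k := k) lam, hc,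
    conjHom_apply lam (lamW lam R * _ * _), map_mul, map_mul, map_inv]
  exact conj_mul_eq (G := WithConv (A →ₐ[k] R[T;T⁻¹][T;T⁻¹])) _ _ _

/-- Substitution `X ↦ XU`. -/
noncomputable def psi' (k R : Type u) [CommRing k] [CommRing R] [Algebra k R] :
    Polynomial R →ₐ[k] (Polynomial R)[T;T⁻¹] :=
  (Polynomial.aeval (R := R) (AddMonoidAlgebra.single (1 : ℤ) (Polynomial.X : Polynomial R) :
    (Polynomial R)[T;T⁻¹])).restrictScalars k

theorem psi'_C (r : R) : psi' k R (Polynomial.C r) = AddMonoidAlgebra.single 0 (Polynomial.C r) := by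
  rw [psi', AlgHom.restrictScalars_apply, Polynomial.aeval_C]
  rfl

theorem psi'_X : psi' k R Polynomial.X = AddMonoidAlgebra.single 1 Polynomial.X := by
  rw [psi', AlgHom.restrictScalars_apply, Polynomial.aeval_X]

theorem mapAlgHom_single' {C D : Type u} [CommRing C] [Algebra k C] [CommRing D] [Algebra k D]
    (φ : C →ₐ[k] D) (n : ℤ) (c : C) :
    AddMonoidAlgebra.mapAlgHom ℤ φ (AddMonoidAlgebra.single n c) =
      AddMonoidAlgebra.single n (φ c) := by
  ext m
  rw [AddMonoidAlgebra.coeff_mapAlgHom, AddMonoidAlgebra.coeff_single, AddMonoidAlgebra.coeff_single,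
    Finsupp.single_apply, Finsupp.single_apply]
  split <;> simp

theorem polyHom_ext {D : Type u} [CommRing D] [Algebra k D] {φ χ : Polynomial R →ₐ[k] D}
    (hC : ∀ r, φ (Polynomial.C r) = χ (Polynomial.C r)) (hX : φ Polynomial.X = χ Polynomial.X) :
    φ = χ := by
  refine AlgHom.ext fun p => ?_
  induction p using Polynomial.induction_on' with
  | add p q hp hq => rw [map_add, map_add, hp, hq]
  | monomial n r => rw [← Polynomial.C_mul_X_pow_eq_monomial, map_mul, map_mul, map_pow, map_pow, hC, hX]

theorem conjHom_lim {g : WithConv (A →ₐ[k] R)} {h : WithConv (A →ₐ[k] Polynomial R)}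
    (hh : post (toL k R) h = conjHom lam R g) :
    conjHom lam R (post (ev0 k R) h) = post (con k R) (post (ev0 k R) h) := by
  have e1 : (psi k R).comp (toL k R) = (AddMonoidAlgebra.mapAlgHom ℤ (toL k R)).comp (psi' k R) := by
    refine polyHom_ext (fun r => ?_) ?_
    · rw [AlgHom.comp_apply, AlgHom.comp_apply, psi'_C, mapAlgHom_single']
      simp only [AlgHom.restrictScalars_apply, Polynomial.toLaurentAlg_apply,
        Polynomial.toLaurent_C]
      exact psi_single (k := k) 0 r
    · rw [AlgHom.comp_apply, AlgHom.comp_apply, psi'_X, mapAlgHom_single']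
      simp only [AlgHom.restrictScalars_apply, Polynomial.toLaurentAlg_apply,
        Polynomial.toLaurent_X]
      exact psi_single (k := k) 1 (1 : R)
  have e2 : conjHom lam (Polynomial R) h = post (psi' k R) h := by
    apply WithConv.ofConv_injective
    ext a n : 2
    have h1 := conjHom_natural lam (toL k R) h
    rw [hh, ← post_psi_conjHom, ← hh] at h1
    have h2 := congrArg (fun p => (WithConv.ofConv p a).coeff n) h1
    change (AddMonoidAlgebra.mapAlgHom ℤ (toL k R) ((conjHom lam (Polynomial R) h).ofConv a)).coeff n =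
      (((psi k R).comp (toL k R)) (h.ofConv a)).coeff n at h2
    rw [e1, AlgHom.comp_apply, AddMonoidAlgebra.coeff_mapAlgHom,
      AddMonoidAlgebra.coeff_mapAlgHom] at h2
    exact toL_injective (k := k) h2
  have e3 : (AddMonoidAlgebra.mapAlgHom ℤ (ev0 k R)).comp (psi' k R) = (con k R).comp (ev0 k R) := by
    refine polyHom_ext (fun r => ?_) ?_
    · rw [AlgHom.comp_apply, AlgHom.comp_apply, psi'_C, mapAlgHom_single']
      simp [LaurentPolynomial.algebraMap_apply]
    · rw [AlgHom.comp_apply, AlgHom.comp_apply, psi'_X, mapAlgHom_single']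
      simp
  rw [← conjHom_natural, e2]
  exact congrArg toConv (by
    show (AddMonoidAlgebra.mapAlgHom ℤ (ev0 k R)).comp ((psi' k R).comp h.ofConv) = _
    rw [← AlgHom.comp_assoc, e3]; rfl)

theorem existsUnique_levi (g : A →ₐ[k] R) (hg : Dyn.LimExists k A lam R g) :
    ∃! zu : (A →ₐ[k] R) × (A →ₐ[k] R),
      Dyn.conjOrbit k A lam R zu.1 = (IsScalarTower.toAlgHom k R R[T;T⁻¹]).comp zu.1 ∧
      Dyn.LimIsOne k A lam R zu.2 ∧
      Dyn.conv3 k A zu.1 zu.2 ((Algebra.ofId k R).comp (Bialgebra.counitAlgHom k A)) = g := by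
  obtain ⟨h, hh⟩ := (limExists_iff_range lam g).mp hg
  let polyC : R →ₐ[k] Polynomial R := IsScalarTower.toAlgHom k R (Polynomial R)
  have hev : ∀ x : WithConv (A →ₐ[k] R), post (ev0 k R) (post polyC x) = x := by
    intro x
    apply WithConv.ofConv_injective
    ext a
    simp [post, polyC]
  have hL : ∀ x : WithConv (A →ₐ[k] R), post (toL k R) (post polyC x) = post (con k R) x := by
    intro x
    apply WithConv.ofConv_injective
    ext a : 1
    simp [post, polyC, LaurentPolynomial.algebraMap_apply]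
  let z : WithConv (A →ₐ[k] R) := post (ev0 k R) h
  have hz := conjHom_lim lam hh
  refine ⟨(z.ofConv, (z⁻¹ * toConv g).ofConv), ⟨?_, ?_, ?_⟩, ?_⟩
  · rw [conjOrbit_eq, toConv_ofConv, hz]; rfl
  · rw [limIsOne_iff, toConv_ofConv]
    refine ⟨(post polyC z)⁻¹ * h, ?_, ?_⟩
    · rw [map_mul, map_inv, hL, map_mul, map_inv, hz, hh]
    · rw [map_mul, map_inv, hev]
      exact inv_mul_cancel z
  · show Dyn.conv3 k A z.ofConv (z⁻¹ * toConv g).ofConv _ = g
    rw [HopfPtLib.conv3_one, toConv_ofConv, toConv_ofConv, mul_inv_cancel_left, ofConv_toConv]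
  · rintro ⟨z', u'⟩ ⟨h1, h2, h3⟩
    rw [HopfPtLib.conv3_one] at h3
    have h4 : toConv z' * toConv u' = toConv g := by rw [← h3]
    obtain ⟨hu, hu1, hu2⟩ := (limIsOne_iff lam u').mp h2
    have h5 : conjHom lam R (toConv z') = post (con k R) (toConv z') := by
      rw [← toConv_conjOrbit]; exact congrArg toConv h1
    have h6 : post (toL k R) (post polyC (toConv z') * hu) = post (toL k R) h := by
      rw [map_mul, hL, hu1, hh, ← h4, map_mul, h5]
    have h7 : post polyC (toConv z') * hu = h := by
      apply WithConv.ofConv_injective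
      ext a : 1
      exact toL_injective (k := k) (congrArg (fun p : WithConv (A →ₐ[k] R[T;T⁻¹]) => p.ofConv a) h6)
    have h8 : z = toConv z' := by
      show post (ev0 k R) h = toConv z'
      rw [← h7, map_mul, hev, hu2, mul_one]
    refine Prod.ext ?_ ?_
    · show z' = z.ofConv
      rw [h8]
    · show u' = (z⁻¹ * toConv g).ofConv
      rw [h8, ← h4, inv_mul_cancel_left, ofConv_toConv]

end Groth.Agent.DynLib
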