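import Groth.Agent.DynLib.Orbit
import Mathlib.RingTheory.Ideal.Quotient.Operations

/-! The Hopf ideals cutting out the attracting subgroups of a one-parameter subgroup. -/

universe u

open LaurentPolynomial TensorProduct WithConv

namespace Groth.Agent.DynLib

variable {k : Type u} [CommRing k] {A : Type u} [CommRing A] [HopfAlgebra k A]

/-- An ideal cutting out a functorial subgroup of points is a Hopf ideal. -/
theorem isHopfIdeal_of_represents (J : Ideal A)
    (P : ∀ (R : Type u) [CommRing R] [Algebra k R], Subgroup (WithConv (A →ₐ[k] R)))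
    (hJ : Dyn.Represents k A J (fun R _ _ g => toConv g ∈ P R)) : J.IsHopfIdeal k := by
  let q := Ideal.Quotient.mkₐ k J
  have hq : toConv q ∈ P (A ⧸ J) := (hJ _ q).mp fun a ha => Ideal.Quotient.eq_zero_iff_mem.mpr ha
  haveI hco : (J.restrictScalars k).IsCoideal := by
    refine ⟨fun x hx => ?_, fun x hx => ?_⟩
    · have h := (hJ k (Bialgebra.counitAlgHom k A)).mpr ?_ x hx
      · exact h
      · have e : toConv (Bialgebra.counitAlgHom k A) = (1 : WithConv (A →ₐ[k] k)) := by
          apply WithConv.ofConv_injective
          ext a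
          simp [AlgHom.convOne_apply]
        show toConv (Bialgebra.counitAlgHom k A) ∈ P k
        rw [e]
        exact (P k).one_mem
    · let R := (A ⧸ J) ⊗[k] (A ⧸ J)
      let i₁ : A →ₐ[k] R := (Algebra.TensorProduct.includeLeft).comp q
      let i₂ : A →ₐ[k] R := (Algebra.TensorProduct.includeRight).comp q
      have h₁ : toConv i₁ ∈ P R := (hJ R i₁).mp fun a ha => by
        simp [i₁, q, Ideal.Quotient.eq_zero_iff_mem.mpr ha]
      have h₂ : toConv i₂ ∈ P R := (hJ R i₂).mp fun a ha => by
        simp [i₂, q, Ideal.Quotient.eq_zero_iff_mem.mpr ha]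
      have h := (hJ R (toConv i₁ * toConv i₂).ofConv).mpr ((P R).mul_mem h₁ h₂) x hx
      rw [HopfPtLib.convMul_eval] at h
      let e := Submodule.Quotient.restrictScalarsEquiv k J
      have key : ∀ t : A ⊗[k] A, TensorProduct.map e.toLinearMap e.toLinearMap
          (TensorProduct.map (J.restrictScalars k).mkQ (J.restrictScalars k).mkQ t) =
          LinearMap.mul' k R (TensorProduct.map i₁.toLinearMap i₂.toLinearMap t) := fun t => by
        induction t using TensorProduct.induction_on with
        | zero => simp
        | tmul a b =>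
          simp [i₁, i₂, q, e, Submodule.Quotient.restrictScalarsEquiv_mk]
          exact (by rw [Algebra.TensorProduct.tmul_mul_tmul, mul_one, one_mul] :
            ((Ideal.Quotient.mk J a) ⊗ₜ[k] (1 : A ⧸ J)) * ((1 : A ⧸ J) ⊗ₜ[k] (Ideal.Quotient.mk J b)) =
              (Ideal.Quotient.mk J a) ⊗ₜ[k] (Ideal.Quotient.mk J b)).symm
        | add a b ha hb => simp only [map_add, ha, hb]
      rw [← key] at h
      exact (TensorProduct.congr e e).injective (h.trans (map_zero _).symm)
  refine { toIsCoideal := hco, antipode_mem := fun x hx => ?_ }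
  have h := (hJ (A ⧸ J) (q.comp (HopfAlgebra.antipodeAlgHom k A))).mpr ((P _).inv_mem hq) x hx
  exact Ideal.Quotient.eq_zero_iff_mem.mp h

variable (lam : A →ₐc[k] k[T;T⁻¹])

/-- The subgroup of points whose orbit has a limit. -/
noncomputable def limSubgroup (R : Type u) [CommRing R] [Algebra k R] :
    Subgroup (WithConv (A →ₐ[k] R)) :=
  (post (A := A) (toL k R)).range.comap (conjHom lam R)

/-- The subgroup of points whose orbit tends to the identity. -/
noncomputable def limOneSubgroup (R : Type u) [CommRing R] [Algebra k R] :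
    Subgroup (WithConv (A →ₐ[k] R)) :=
  ((post (A := A) (ev0 k R)).ker.map (post (toL k R))).comap (conjHom lam R)

theorem mem_limSubgroup {R : Type u} [CommRing R] [Algebra k R] (g : A →ₐ[k] R) :
    toConv g ∈ limSubgroup lam R ↔ Dyn.LimExists k A lam R g := (limExists_iff_range lam g).symm

theorem mem_limOneSubgroup {R : Type u} [CommRing R] [Algebra k R] (g : A →ₐ[k] R) :
    toConv g ∈ limOneSubgroup lam R ↔ Dyn.LimIsOne k A lam R g := by
  rw [limIsOne_iff, limOneSubgroup, Subgroup.mem_comap, Subgroup.mem_map]
  simp only [MonoidHom.mem_ker, and_comm]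

/-- The universal orbit. -/
noncomputable abbrev orbit : A →ₐ[k] A[T;T⁻¹] := Dyn.conjOrbit k A lam A (AlgHom.id k A)

/-- The ideal of the points whose orbit has a limit. -/
noncomputable def idealP : Ideal A :=
  Ideal.span {b | ∃ (a : A) (n : ℤ), n < 0 ∧ b = (orbit lam a).coeff n}

theorem represents_idealP :
    Dyn.Represents k A (idealP lam) (fun R _ _ g => Dyn.LimExists k A lam R g) := by
  intro R _ _ g
  show _ ↔ Dyn.LimExists k A lam R g
  rw [limExists_iff]
  constructor
  · intro h a n hn
    rw [coeff_conjOrbit]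
    exact h _ (Ideal.subset_span ⟨a, n, hn, rfl⟩)
  · intro h b hb
    have hle : idealP lam ≤ RingHom.ker g := by
      rw [idealP, Ideal.span_le]
      rintro _ ⟨a, n, hn, rfl⟩
      exact ((coeff_conjOrbit lam g a n).symm.trans (h a n hn) :)
    exact hle hb

theorem isHopfIdeal_idealP : (idealP lam).IsHopfIdeal k :=
  isHopfIdeal_of_represents _ (fun R _ _ => limSubgroup lam R) fun R _ _ g =>
    (represents_idealP lam R g).trans (mem_limSubgroup lam g).symm

/-- The ideal of the points whose orbit tends to the identity. -/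
noncomputable def idealU : Ideal A :=
  idealP lam ⊔ Ideal.span (Set.range fun a : A =>
    (orbit lam a).coeff 0 - algebraMap k A (Coalgebra.counit a))

theorem represents_idealU :
    Dyn.Represents k A (idealU lam) (fun R _ _ g => Dyn.LimIsOne k A lam R g) := by
  intro R _ _ g
  constructor
  · intro h
    obtain ⟨p, hp⟩ := (represents_idealP lam R g).mp fun a ha => h a (Ideal.mem_sup_left ha)
    refine ⟨p, hp, ?_⟩
    ext a
    have h0 := h _ (Ideal.mem_sup_right (Ideal.subset_span ⟨a, rfl⟩))
    rw [map_sub, AlgHom.commutes, sub_eq_zero, ← coeff_conjOrbit lam g a 0, ← hp] at h0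
    simp only [AlgHom.comp_apply, AlgHom.coe_restrictScalars', Algebra.ofId_apply,
      Bialgebra.counitAlgHom_apply, Polynomial.aeval_def, Polynomial.eval₂_at_zero]
    rw [← coeff_toLaurent_natCast (p a) 0]
    exact h0
  · rintro ⟨p, hp, h0⟩ b hb
    have hle : idealU lam ≤ RingHom.ker g := by
      refine sup_le (fun x hx => (represents_idealP lam R g).mpr ⟨p, hp⟩ x hx) ?_
      rw [Ideal.span_le]
      rintro _ ⟨a, rfl⟩
      rw [SetLike.mem_coe, RingHom.mem_ker, map_sub, AlgHom.commutes, sub_eq_zero,
        ← coeff_conjOrbit lam g a 0, ← hp]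
      have h1 := DFunLike.congr_fun h0 a
      simp only [AlgHom.comp_apply, AlgHom.coe_restrictScalars', Algebra.ofId_apply,
        Bialgebra.counitAlgHom_apply, Polynomial.aeval_def, Polynomial.eval₂_at_zero] at h1
      rw [← h1]
      exact coeff_toLaurent_natCast (p a) 0
    exact hle hb

theorem isHopfIdeal_idealU : (idealU lam).IsHopfIdeal k :=
  isHopfIdeal_of_represents _ (fun R _ _ => limOneSubgroup lam R) fun R _ _ g =>
    (represents_idealU lam R g).trans (mem_limOneSubgroup lam g).symm

end Groth.Agent.DynLib
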